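import Cfsg.Agent.Helper61.Sr.P1

/-!
S3572 (Wielandt: dihedral groups are B-groups), helper61's layer-2 piece (PL): power maps.
-/

set_option autoImplicit false
set_option linter.unusedSectionVars false
set_option linter.unusedVariables false

namespace Cfsg.Agent.Helper53.Sr

open Finset DihedralGroup Cfsg.Agent.Helper61.Sr Cfsg.Agent.Helper61.Dih

variable {n : ℕ} [NeZero n] (S : SRing (DihedralGroup n))

/-- (PL) -/
theorem PL (hn : 3 ≤ n) (hS : S.IsPrim) (T : Finset (DihedralGroup n)) (hT : S.IsSet T)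
    (l : ℕ) (hl : l.Prime) (hl2n : 2 * n < l) :
    ∃ T' : Finset (DihedralGroup n), S.IsSet T' ∧
      (∀ x : ZMod n, x ∈ rotPart T' ↔ ∃ i ∈ rotPart T, l • i = x) ∧ T'.card = T.card := by
  classical
  haveI : Fact l.Prime := ⟨hl⟩
  have hl2 : l ≠ 2 := by omega
  have hinv := isSet_inv_mem S hS hT
  have hf : S.Inv ((ind T : MonoidAlgebra ℤ (DihedralGroup n)) ^ l) := inv_pow S (inv_ind S hT) l
  -- `i ↦ l • i` is injective
  have hcop : Nat.Coprime l n := by
    apply (Nat.Prime.coprime_iff_not_dvd hl).mpr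
    intro h
    have := Nat.le_of_dvd (NeZero.pos n) h
    omega
  have hinj : ∀ i j : ZMod n, l • i = l • j → i = j := by
    intro i j h
    have hu : IsUnit ((l : ℕ) : ZMod n) := (ZMod.isUnit_iff_coprime l n).mpr hcop
    rw [nsmul_eq_mul, nsmul_eq_mul] at h
    exact hu.mul_left_cancel h
  have hcount : ∀ x : ZMod n, ((rotPart T).filter (fun i => l • i = x)).card ≤ 1 := by
    intro x
    apply Finset.card_le_one.mpr
    intro a ha b hb
    rw [Finset.mem_filter] at ha hb
    exact hinj a b (ha.2.trans hb.2.symm)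
  have hone : (1 : ZMod l) ≠ 0 := one_ne_zero
  have hrotcoeff : ∀ x : ZMod n,
      ((((ind T : MonoidAlgebra ℤ (DihedralGroup n)) ^ l).coeff (r x) : ℤ) : ZMod l) =
        if (∃ i ∈ rotPart T, l • i = x) then 1 else 0 := by
    intro x
    rw [coeff_pow_rot T hinv l hl2 x]
    split_ifs with h
    · obtain ⟨i, hi, hix⟩ := h
      have : ((rotPart T).filter (fun i => l • i = x)).card = 1 := by
        apply le_antisymm (hcount x)
        exact Finset.card_pos.mpr ⟨i, Finset.mem_filter.mpr ⟨hi, hix⟩⟩
      rw [this, Nat.cast_one]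
    · have : ((rotPart T).filter (fun i => l • i = x)).card = 0 := by
        rw [Finset.card_eq_zero, Finset.filter_eq_empty_iff]
        intro i hi hix
        exact h ⟨i, hi, hix⟩
      rw [this, Nat.cast_zero]
  have hrot01 : ∀ x : ZMod n,
      ((((ind T : MonoidAlgebra ℤ (DihedralGroup n)) ^ l).coeff (r x) : ℤ) : ZMod l) = 0 ∨
      ((((ind T : MonoidAlgebra ℤ (DihedralGroup n)) ^ l).coeff (r x) : ℤ) : ZMod l) = 1 := by
    intro x
    rw [hrotcoeff x]
    split_ifs
    · right; rfl
    · left; rfl
  -- every coefficient is `0` or `1` mod `l`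
  have h01 : ∀ y : DihedralGroup n,
      ((((ind T : MonoidAlgebra ℤ (DihedralGroup n)) ^ l).coeff y : ℤ) : ZMod l) = 0 ∨
      ((((ind T : MonoidAlgebra ℤ (DihedralGroup n)) ^ l).coeff y : ℤ) : ZMod l) = 1 := by
    intro y
    cases y with
    | r x => exact hrot01 x
    | sr j =>
      have hne1 : (sr j : DihedralGroup n) ≠ 1 := by
        intro h
        rw [one_def] at h
        cases h
      obtain ⟨i, hi⟩ := F1' S (by omega) hS (S.cls (sr j)) (isSet_cls S _)
        ⟨sr j, self_mem_cls S _⟩ (one_notMem_cls S hne1)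
      rw [mem_cls] at hi
      rw [hf (sr j) (r i) hi]
      exact hrot01 i
  have hT'set : S.IsSet (univ.filter fun y => (fun k : ℤ => (k : ZMod l) = 1)
      (((ind T : MonoidAlgebra ℤ (DihedralGroup n)) ^ l).coeff y)) :=
    isSet_filter S hf (fun k : ℤ => (k : ZMod l) = 1)
  refine ⟨_, hT'set, ?_, ?_⟩
  · intro x
    rw [mem_rotPart, Finset.mem_filter]
    simp only [Finset.mem_univ, true_and]
    rw [hrotcoeff x]
    constructor
    · intro h
      by_contra hne
      rw [if_neg hne] at h
      exact hone h.symm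
    · intro h
      rw [if_pos h]
  · have hsum : (∑ y : DihedralGroup n,
        ((((ind T : MonoidAlgebra ℤ (DihedralGroup n)) ^ l).coeff y : ℤ) : ZMod l)) =
        ((T.card : ℕ) : ZMod l) := by
      have h1 := sum_coeff_pow T l
      have h2 := congrArg (fun z : ℤ => (z : ZMod l)) h1
      simp only [Int.cast_sum, Int.cast_pow, Int.cast_natCast] at h2
      rw [ZMod.pow_card] at h2
      exact h2
    have hsum2 : (∑ y : DihedralGroup n,
        ((((ind T : MonoidAlgebra ℤ (DihedralGroup n)) ^ l).coeff y : ℤ) : ZMod l)) =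
        (((univ.filter fun y => (fun k : ℤ => (k : ZMod l) = 1)
          (((ind T : MonoidAlgebra ℤ (DihedralGroup n)) ^ l).coeff y)).card : ℕ) : ZMod l) := by
      rw [Finset.card_filter, Nat.cast_sum]
      apply Finset.sum_congr rfl
      intro y _
      rcases h01 y with h | h
      · have hc : ¬ ((fun k : ℤ => (k : ZMod l) = 1)
            (((ind T : MonoidAlgebra ℤ (DihedralGroup n)) ^ l).coeff y)) := by
          show ¬ ((((ind T : MonoidAlgebra ℤ (DihedralGroup n)) ^ l).coeff y : ℤ) : ZMod l) = 1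
          rw [h]
          exact fun h' => hone h'.symm
        rw [if_neg hc, Nat.cast_zero, h]
      · have hc : (fun k : ℤ => (k : ZMod l) = 1)
            (((ind T : MonoidAlgebra ℤ (DihedralGroup n)) ^ l).coeff y) := h
        rw [if_pos hc, Nat.cast_one, h]
    have hcast := hsum2.symm.trans hsum
    have hcardD : Fintype.card (DihedralGroup n) = 2 * n := DihedralGroup.card
    have hb1 : (univ.filter fun y => (fun k : ℤ => (k : ZMod l) = 1)
        (((ind T : MonoidAlgebra ℤ (DihedralGroup n)) ^ l).coeff y)).card < l :=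
      lt_of_le_of_lt (Finset.card_le_univ _) (by rw [hcardD]; exact hl2n)
    have hb2 : T.card < l :=
      lt_of_le_of_lt (Finset.card_le_univ _) (by rw [hcardD]; exact hl2n)
    have := (ZMod.natCast_eq_natCast_iff' _ _ _).mp hcast
    rw [Nat.mod_eq_of_lt hb1, Nat.mod_eq_of_lt hb2] at this
    exact this

end Cfsg.Agent.Helper53.Sr
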