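import Cfsg.Agent.Helper61.Sr.P1

/-!
S3572 (Wielandt: dihedral groups are B-groups), helper61's layer-2 piece (PO).
-/

set_option autoImplicit false
set_option linter.unusedSectionVars false
set_option linter.unusedVariables false

namespace Cfsg.Agent.Helper53.Sr

open Finset DihedralGroup Cfsg.Agent.Helper61.Sr Cfsg.Agent.Helper61.Dih

variable {n : ℕ} [NeZero n] (S : SRing (DihedralGroup n))

/-- (PO) -/
theorem perOff_of_empty (hn : 3 ≤ n) (hS : S.IsPrim) (p : ℕ) [Fact p.Prime] (hp2 : p ≠ 2)
    (hpn : p ∣ n) (T : Finset (DihedralGroup n)) (hT : S.IsSet T)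
    (hemp : ∀ T' : Finset (DihedralGroup n), S.IsSet T' → (1 : DihedralGroup n) ∉ T' →
      (∀ i ∈ rotPart T', ∃ x ∈ rotPart T, p • x = i) → T' = ∅) : PerOff p (rotPart T) := by
  classical
  have hinv := isSet_inv_mem S hS hT
  have hf : S.Inv (ind T ^ p) := inv_pow S (inv_ind S hT) p
  -- every coefficient off `1` vanishes mod `p`
  have hzero : ∀ y : DihedralGroup n, y ≠ 1 →
      ((((ind T : MonoidAlgebra ℤ (DihedralGroup n)) ^ p).coeff y : ℤ) : ZMod p) = 0 := by
    intro y hy
    by_contra hc
    set c : ZMod p := ((((ind T : MonoidAlgebra ℤ (DihedralGroup n)) ^ p).coeff y : ℤ) : ZMod p)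
      with hcdef
    have hU : S.IsSet ((univ.filter fun z =>
        (fun k : ℤ => (k : ZMod p) = c)
          (((ind T : MonoidAlgebra ℤ (DihedralGroup n)) ^ p).coeff z)).erase 1) :=
      isSet_erase_one S (isSet_filter S hf (fun k : ℤ => (k : ZMod p) = c))
    have hU1 : (1 : DihedralGroup n) ∉ ((univ.filter fun z =>
        (fun k : ℤ => (k : ZMod p) = c)
          (((ind T : MonoidAlgebra ℤ (DihedralGroup n)) ^ p).coeff z)).erase 1) :=
      Finset.notMem_erase _ _
    have hUrot : ∀ i ∈ rotPart ((univ.filter fun z =>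
        (fun k : ℤ => (k : ZMod p) = c)
          (((ind T : MonoidAlgebra ℤ (DihedralGroup n)) ^ p).coeff z)).erase 1),
        ∃ x ∈ rotPart T, p • x = i := by
      intro i hi
      rw [mem_rotPart] at hi
      have h2 : ((((ind T : MonoidAlgebra ℤ (DihedralGroup n)) ^ p).coeff (r i) : ℤ) : ZMod p)
          = c := by
        have := (Finset.mem_filter.mp (Finset.mem_erase.mp hi).2).2
        exact this
      rw [coeff_pow_rot T hinv p hp2 i] at h2
      have h3 : ((rotPart T).filter (fun x => p • x = i)).card ≠ 0 := by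
        intro h0
        rw [h0, Nat.cast_zero] at h2
        exact hc h2.symm
      obtain ⟨x, hx⟩ := Finset.card_ne_zero.mp h3
      rw [Finset.mem_filter] at hx
      exact ⟨x, hx.1, hx.2⟩
    have hUe := hemp _ hU hU1 hUrot
    have hyU : y ∈ ((univ.filter fun z =>
        (fun k : ℤ => (k : ZMod p) = c)
          (((ind T : MonoidAlgebra ℤ (DihedralGroup n)) ^ p).coeff z)).erase 1) := by
      apply Finset.mem_erase.mpr
      refine ⟨hy, Finset.mem_filter.mpr ⟨Finset.mem_univ _, ?_⟩⟩
      exact hcdef.symm ▸ rfl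
    rw [hUe] at hyU
    exact Finset.notMem_empty _ hyU
  intro x u hu hx
  apply P2 p hpn ?_ x u hu hx
  intro y hy
  have hry : (r y : DihedralGroup n) ≠ 1 := by
    intro h
    rw [one_def] at h
    exact hy (r.inj h)
  have := hzero (r y) hry
  rw [coeff_pow_rot T hinv p hp2 y] at this
  exact (ZMod.natCast_eq_zero_iff _ _).mp this

end Cfsg.Agent.Helper53.Sr
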